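import Cfsg.Agent.Lib.H6.L37.TC1.Rows0

set_option autoImplicit false
set_option maxRecDepth 1000000

/-! # final table of K over K1 (generated) -/

namespace Cfsg.Agent.Lib.H6.L37.TC1

open Cfsg.Agent.Lib.H17.CosetCert Cfsg.Agent.Lib.H6.TC

/-- all row chunks -/
def rowsAll : List (List ℕ) := [rows0, rows1, rows2, rows3, rows4, rows5]

/-- all rows -/
def rows : List ℕ := rowsAll.flatten

set_option maxHeartbeats 0 in
theorem mask_ok : maskOf 32768 rows 0 = mask := by
  decide +kernel

set_option maxHeartbeats 0 in
theorem rows_length : rows.length = 5586 := by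
  decide +kernel

theorem mask_zero : tb mask 0 = true := by
  decide +kernel

theorem rows_chk : ∀ L ∈ rowsAll, checkRows F iv 6 32768 16935 mask L = true := by
  intro L hL
  simp only [rowsAll, List.mem_cons, List.not_mem_nil, or_false] at hL
  rcases hL with rfl | rfl | rfl | rfl | rfl | rfl
  · exact rchk0
  · exact rchk1
  · exact rchk2
  · exact rchk3
  · exact rchk4
  · exact rchk5

end Cfsg.Agent.Lib.H6.L37.TC1
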