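import Cfsg.Agent.Lib.H6.L37.TC1.Steps0

set_option autoImplicit false
set_option maxRecDepth 1000000

/-! # invariant through part 0 of K over K1 (generated) -/

namespace Cfsg.Agent.Lib.H6.L37.TC1

open Cfsg.Agent.Lib.H17.CosetCert Cfsg.Agent.Lib.H6.TC

theorem part0 {G Q : Type} [Group G] [MulAction G Q] (γ : ℕ → G)
    (hiv : ∀ x < 6, γ (iv x) = (γ x)⁻¹) (q0 : Q) (hw : WordsOK γ q0 words)
    (h0 : Inv F 6 γ q0 0 1) : Inv F 6 γ q0 16935 5594 := by
  have h1 := checkSteps_sound F iv 6 32768 γ hiv q0 words hw steps0 0 1 365 h0 chk0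
  rw [len0] at h1
  have h2 := checkSteps_sound F iv 6 32768 γ hiv q0 words hw steps1 1000 365 734 h1 chk1
  rw [len1] at h2
  have h3 := checkSteps_sound F iv 6 32768 γ hiv q0 words hw steps2 2000 734 1112 h2 chk2
  rw [len2] at h3
  have h4 := checkSteps_sound F iv 6 32768 γ hiv q0 words hw steps3 3000 1112 1494 h3 chk3
  rw [len3] at h4
  have h5 := checkSteps_sound F iv 6 32768 γ hiv q0 words hw steps4 4000 1494 1863 h4 chk4
  rw [len4] at h5
  have h6 := checkSteps_sound F iv 6 32768 γ hiv q0 words hw steps5 5000 1863 2229 h5 chk5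
  rw [len5] at h6
  have h7 := checkSteps_sound F iv 6 32768 γ hiv q0 words hw steps6 6000 2229 2595 h6 chk6
  rw [len6] at h7
  have h8 := checkSteps_sound F iv 6 32768 γ hiv q0 words hw steps7 7000 2595 2922 h7 chk7
  rw [len7] at h8
  have h9 := checkSteps_sound F iv 6 32768 γ hiv q0 words hw steps8 8000 2922 3249 h8 chk8
  rw [len8] at h9
  have h10 := checkSteps_sound F iv 6 32768 γ hiv q0 words hw steps9 9000 3249 3545 h9 chk9
  rw [len9] at h10
  have h11 := checkSteps_sound F iv 6 32768 γ hiv q0 words hw steps10 10000 3545 3857 h10 chk10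
  rw [len10] at h11
  have h12 := checkSteps_sound F iv 6 32768 γ hiv q0 words hw steps11 11000 3857 4163 h11 chk11
  rw [len11] at h12
  have h13 := checkSteps_sound F iv 6 32768 γ hiv q0 words hw steps12 12000 4163 4490 h12 chk12
  rw [len12] at h13
  have h14 := checkSteps_sound F iv 6 32768 γ hiv q0 words hw steps13 13000 4490 4785 h13 chk13
  rw [len13] at h14
  have h15 := checkSteps_sound F iv 6 32768 γ hiv q0 words hw steps14 14000 4785 5082 h14 chk14
  rw [len14] at h15
  have h16 := checkSteps_sound F iv 6 32768 γ hiv q0 words hw steps15 15000 5082 5355 h15 chk15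
  rw [len15] at h16
  have h17 := checkSteps_sound F iv 6 32768 γ hiv q0 words hw steps16 16000 5355 5594 h16 chk16
  rw [len16] at h17
  exact h17

end Cfsg.Agent.Lib.H6.L37.TC1
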